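import Groth.Agent.Flat2H.ThickFibre
import Groth.Agent.Dcoh.PushFLF304

/-!
# From fibrewise vanishing to vanishing over affine opens of the base

The affine statement `Key` (fibrewise vanishing of the higher cohomology of an invertible module on a proper flat
finitely presented `X → Spec A` implies vanishing of the higher cohomology, and `H^0` finite projective) implies the
statement over an arbitrary base.
-/

set_option autoImplicit false
universe u

open CategoryTheory Limits AlgebraicGeometry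

namespace Groth.Agent.Ega4A.FibToAffine

open Groth.Agent.Fdesc.FlatStalk Groth.Agent.Grpsch.PicGrp Groth.Agent.Fdesc.LocGen Groth.Agent.Flat2H.ThickFibre

/-- The affine key statement. -/
def Key : Prop :=
  ∀ (A : Type u) [CommRing A] (X : Scheme.{u}) (f : X ⟶ Spec (CommRingCat.of A)) [IsProper f] [Flat f]
    [LocallyOfFinitePresentation f] (F : X.Modules) (_ : PicF.IsInvertible F)
    (_ : ∀ (s : Spec (CommRingCat.of A)) (p : ℕ), 0 < p →
      Subsingleton (Coh.HH (f.fiber s) ((Scheme.Modules.pullback (f.fiberι s)).obj F) p)),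
    (∀ p : ℕ, 0 < p → Subsingleton (Coh.HH X F p)) ∧
      ∃ (N : Type u) (_ : AddCommGroup N) (_ : Module A N), Module.Finite A N ∧ Module.Projective A N ∧
        ∃ e : N ≃+ Γ(F, ⊤), ∀ (a : A) (x : N),
          e (a • x) = f.appTop ((Scheme.ΓSpecIso (CommRingCat.of A)).inv a) • e x

variable {X X' S S' : Scheme.{u}} {i' : X ⟶ X'} {f : X ⟶ S} {f' : X' ⟶ S'} {i : S ⟶ S'}

theorem nonempty_fibre_iso (h : IsPullback i' f f' i) (s : S) [IsIso (i.residueFieldMap s)]
    {F' : X'.Modules} {F : X.Modules} (e : (Scheme.Modules.pullback i').obj F' ≅ F) :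
    Nonempty ((Scheme.Modules.pullback (fiberIso h s).hom).obj
        ((Scheme.Modules.pullback (f'.fiberι (i s))).obj F') ≅
      (Scheme.Modules.pullback (f.fiberι s)).obj F) :=
  ⟨(Scheme.Modules.pullbackComp (fiberIso h s).hom (f'.fiberι (i s))).app F' ≪≫
    (Scheme.Modules.pullbackCongr (fiberIso_hom_ι h s)).app F' ≪≫
    (Scheme.Modules.pullbackComp (f.fiberι s) i').symm.app F' ≪≫
    (Scheme.Modules.pullback (f.fiberι s)).mapIso e⟩

/-- Vanishing of the cohomology on a fibre is the same for `F` and `F'`. -/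
theorem subsingleton_HH_fibre_iff' (h : IsPullback i' f f' i) (s : S) [IsIso (i.residueFieldMap s)]
    {F' : X'.Modules} (hF' : PicF.IsInvertible F') {F : X.Modules}
    (e : (Scheme.Modules.pullback i').obj F' ≅ F) (p : ℕ) :
    Subsingleton (Coh.HH (f'.fiber (i s)) ((Scheme.Modules.pullback (f'.fiberι (i s))).obj F') p) ↔
    Subsingleton (Coh.HH (f.fiber s) ((Scheme.Modules.pullback (f.fiberι s)).obj F) p) := by
  have hq : Coh.IsQCoh ((Scheme.Modules.pullback (f'.fiberι (i s))).obj F') :=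
    Ega2.QCohLocal.isQCoh_of_isInvertible (isInvertible_pullback _ hF')
  obtain ⟨E⟩ := nonempty_fibre_iso h s e
  rw [← subsingleton_HH_pullback_iff (fiberIso h s).hom _ hq p]
  exact ⟨fun h ↦ Fga.HShift.subsingleton_of_iso E p h, fun h ↦ Fga.HShift.subsingleton_of_iso E.symm p h⟩

theorem map_map_inv (X : Scheme.{u}) {V V' : X.Opens} (i : Opposite.op V ⟶ Opposite.op V')
    (j : Opposite.op V' ⟶ Opposite.op V) : X.presheaf.map i ≫ X.presheaf.map j = 𝟙 _ := by
  rw [← Functor.map_comp, Subsingleton.elim (i ≫ j) (𝟙 _), CategoryTheory.Functor.map_id]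

theorem map_app_map (f : X ⟶ S) {U V : S.Opens} {W : X.Opens} (i : Opposite.op U ⟶ Opposite.op V)
    (j : Opposite.op (f ⁻¹ᵁ V) ⟶ Opposite.op W) (k : Opposite.op (f ⁻¹ᵁ U) ⟶ Opposite.op W) :
    S.presheaf.map i ≫ f.app V ≫ X.presheaf.map j = f.app U ≫ X.presheaf.map k := by
  rw [f.naturality_assoc, ← Functor.map_comp]
  rfl

/-- Sections of the restriction over the whole open. -/
theorem exists_secEquiv {X : Scheme.{u}} (W : X.Opens) (M : X.Modules) :
    ∃ e : Γ(M.restrict W.ι, ⊤) ≃+ Γ(M, W), ∀ (r : Γ(X, W)) (x : Γ(M.restrict W.ι, ⊤)),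
      e (W.topIso.inv r • x) = r • e x := by
  have hW : W.ι ''ᵁ ⊤ = W := by simp
  let i : W ⟶ W.ι ''ᵁ ⊤ := eqToHom hW.symm
  have : IsIso (M.presheaf.map i.op) := inferInstance
  let E : Γ(M.restrict W.ι, ⊤) ≅ Γ(M, W) := M.restrictAppIso W.ι ⊤ ≪≫ asIso (M.presheaf.map i.op)
  refine ⟨E.addCommGroupIsoToAddEquiv, fun r x ↦ ?_⟩
  change (M.presheaf.map i.op) ((M.restrictAppIso W.ι ⊤).hom (W.topIso.inv r • x)) =
    r • (M.presheaf.map i.op) ((M.restrictAppIso W.ι ⊤).hom x)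
  have h1 : (M.restrictAppIso W.ι ⊤).hom (W.topIso.inv r • x) =
      (W.ι.appIso ⊤).inv (W.topIso.inv r) • (M.restrictAppIso W.ι ⊤).hom x := rfl
  rw [h1, Scheme.Modules.map_smul]
  congr 1
  have h2 : W.topIso.inv ≫ (W.ι.appIso ⊤).inv ≫ X.presheaf.map i.op = 𝟙 _ := by
    simp only [Scheme.Opens.ι_appIso, Scheme.Opens.topIso_inv, Iso.refl_inv, i, eqToHom_op]
    erw [Category.id_comp]
    exact map_map_inv X _ _
  exact congr($(h2).hom r)

/-- the structure morphism of the preimage of an affine open over the spectrum of its ring -/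
noncomputable def fU (f : X ⟶ S) {U : S.Opens} (hU : IsAffineOpen U) :
    (f ⁻¹ᵁ U : Scheme.{u}) ⟶ Spec (CommRingCat.of Γ(S, U)) := (f ∣_ U) ≫ hU.isoSpec.hom

theorem isPullback_fU (f : X ⟶ S) {U : S.Opens} (hU : IsAffineOpen U) :
    IsPullback (f ⁻¹ᵁ U).ι (fU f hU) f hU.fromSpec := by
  refine IsPullback.of_iso (isPullback_morphismRestrict f U).flip (Iso.refl _) (Iso.refl _) hU.isoSpec
      (Iso.refl _) (by simp) (by simp [fU]) (by simp) (by simp)

theorem fU_appTop (f : X ⟶ S) {U : S.Opens} (hU : IsAffineOpen U) (a : Γ(S, U)) :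
    (fU f hU).appTop ((Scheme.ΓSpecIso (CommRingCat.of Γ(S, U))).inv a) = (f ⁻¹ᵁ U).topIso.inv (f.app U a) := by
  have h : (Scheme.ΓSpecIso Γ(S, U)).inv ≫ (fU f hU).appTop = f.app U ≫ (f ⁻¹ᵁ U).topIso.inv := by
    rw [fU, Scheme.Hom.comp_appTop, IsAffineOpen.isoSpec_hom_appTop, Category.assoc, Iso.inv_hom_id_assoc,
      morphismRestrict_appTop]
    simp only [Scheme.Opens.topIso_inv]
    exact map_app_map f _ _ _
  exact congr($(h).hom a)

/-- **Main reduction**. -/
theorem main (key : Key.{u}) (f : X ⟶ S) [IsProper f] [Flat f] [LocallyOfFinitePresentation f]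
    {F : X.Modules} (hF : PicF.IsInvertible F)
    (h : ∀ (s : S) (p : ℕ), 0 < p →
      Subsingleton (Coh.HH (f.fiber s) ((Scheme.Modules.pullback (f.fiberι s)).obj F) p)) :
    (∀ (U : S.Opens) (p : ℕ), IsAffineOpen U → 0 < p → Subsingleton (Coh.HHon X F (f ⁻¹ᵁ U) p)) ∧
      FlatMod.IsFinLocFree ((Scheme.Modules.pushforward f).obj F) := by
  have main' : ∀ (U : S.Opens) (hU : IsAffineOpen U),
      (∀ p : ℕ, 0 < p → Subsingleton (Coh.HHon X F (f ⁻¹ᵁ U) p)) ∧
      (letI : Module Γ(S, U) Γ(F, f ⁻¹ᵁ U) := Module.compHom _ (f.app U).hom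
      Module.Finite Γ(S, U) Γ(F, f ⁻¹ᵁ U) ∧ Module.Projective Γ(S, U) Γ(F, f ⁻¹ᵁ U)) := by
    intro U hU
    have hprop : IsProper (fU f hU) := by unfold fU; infer_instance
    have hflat : Flat (fU f hU) := by unfold fU; infer_instance
    have hlfp : LocallyOfFinitePresentation (fU f hU) := by unfold fU; infer_instance
    have e : (Scheme.Modules.pullback (f ⁻¹ᵁ U).ι).obj F ≅ F.restrict (f ⁻¹ᵁ U).ι :=
      (Scheme.Modules.restrictFunctorIsoPullback (f ⁻¹ᵁ U).ι).symm.app F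
    have hinv : PicF.IsInvertible (F.restrict (f ⁻¹ᵁ U).ι) := by
      have h1 := isInvertible_pullback (f ⁻¹ᵁ U).ι hF
      rw [isInvertible_iff] at h1 ⊢
      intro x
      obtain ⟨V, t, hxV, ht⟩ := h1 x
      exact ⟨V, _, hxV, ht.app e.hom⟩
    obtain ⟨h1, N, _, _, hfin, hproj, e', he'⟩ := key Γ(S, U) (f ⁻¹ᵁ U : Scheme.{u}) (fU f hU)
      (F.restrict (f ⁻¹ᵁ U).ι) hinv
      (fun s p hp ↦ (subsingleton_HH_fibre_iff' (isPullback_fU f hU) s hF e p).1 (h _ p hp))
    refine ⟨h1, ?_⟩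
    letI : Module Γ(S, U) Γ(F, f ⁻¹ᵁ U) := Module.compHom _ (f.app U).hom
    obtain ⟨e₂, he₂⟩ := exists_secEquiv (f ⁻¹ᵁ U) F
    let E : N ≃ₗ[Γ(S, U)] Γ(F, f ⁻¹ᵁ U) := (e'.trans e₂).toLinearEquiv (fun a x ↦ by
      change e₂ (e' (a • x)) = (f.app U).hom a • e₂ (e' x)
      rw [he', fU_appTop, he₂])
    exact ⟨Module.Finite.equiv E, Module.Projective.of_equiv E⟩
  refine ⟨fun U p hU hp ↦ (main' U hU).1 p hp, ?_⟩
  refine Dcoh.PushFLF304.isFinLocFree_pushforward' f (Ega2.QCohLocal.isQCoh_of_isInvertible hF) IsAffineOpen ?_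
    (fun V hV _ ↦ (main' V hV).2)
  intro s
  obtain ⟨_, ⟨V, hV, rfl⟩, hsV, -⟩ := S.isBasis_affineOpens.exists_subset_of_mem_open
    (Set.mem_univ s) isOpen_univ
  exact ⟨V, hV, hV, hsV⟩

end Groth.Agent.Ega4A.FibToAffine
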