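import Groth.Agent.Localalg.Matlis5
import Groth.Agent.Sga2.MatlisLen
import Mathlib.LinearAlgebra.Charpoly.ToMatrix
import Mathlib.RingTheory.Nakayama

/-!
# Boundedness of submodules of an Artinian module

`A` a complete Noetherian local ring, `N` an Artinian `A`-module such that for every nonzero
non-maximal prime `p` there are `a ∈ p`, `b ∉ p` such that some power of the maximal ideal kills
`b • N[a]`.  Then `N` has finite length.  (This is used for the boundedness of `H¹(X, 𝒪_X)` over
all normal modifications `X` of the spectrum of a complete normal local domain of dimension two.)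
-/

set_option autoImplicit false
universe u v

namespace Groth.Agent.Ega4A.ResBound

open IsLocalRing InjHull

/-- Determinant trick: if `d Ω ⊆ I Ω` for a finite module `Ω`, then some `e ≡ d ^ n` modulo `I`
kills `Ω`. -/
theorem exists_sub_pow_mem_smul_eq_zero {R : Type u} [CommRing R] {Ω : Type v} [AddCommGroup Ω]
    [Module R Ω] [Module.Finite R Ω] (I : Ideal R) (d : R)
    (h : ∀ x : Ω, d • x ∈ I • (⊤ : Submodule R Ω)) :
    ∃ (n : ℕ) (e : R), e - d ^ n ∈ I ∧ ∀ x : Ω, e • x = 0 := by
  obtain ⟨p, hp1, -, hp2, hp3⟩ :=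
    LinearMap.exists_monic_and_natDegree_eq_and_coeff_mem_pow_and_aeval_eq_zero
    R (LinearMap.lsmul R Ω d) I (by
      rintro _ ⟨x, rfl⟩
      exact h x)
  refine ⟨p.natDegree, p.eval d, ?_, fun x => ?_⟩
  · rw [Polynomial.eval_eq_sum_range, Finset.sum_range_succ, hp1.coeff_natDegree, one_mul,
      add_sub_cancel_right]
    refine Ideal.sum_mem _ fun k hk => Ideal.mul_mem_right _ _ ?_
    have hk' : 1 ≤ p.natDegree - k := by
      have := Finset.mem_range.mp hk
      omega
    have := Ideal.pow_le_pow_right hk' (hp2 k)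
    rwa [pow_one] at this
  · have h1 : LinearMap.lsmul R Ω d = algebraMap R (Module.End R Ω) d := by
      ext x
      simp [Module.algebraMap_end_apply]
    rw [h1, Polynomial.aeval_algebraMap_apply] at hp3
    have := LinearMap.congr_fun hp3 x
    simpa [Module.algebraMap_end_apply] using this

variable {A : Type u} [CommRing A] [IsLocalRing A] [IsNoetherianRing A]

/-- Abstract boundedness theorem. -/
theorem isFiniteLength_of_forall_prime [IsAdicComplete (maximalIdeal A) A]
    (N : Type u) [AddCommGroup N] [Module A N] [IsArtinian A N]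
    (S : Set (PrimeSpectrum A))
    (hS : ∀ p : PrimeSpectrum A, p.asIdeal ≠ maximalIdeal A → ∃ q ∈ S, p ≤ q ∧
      q.asIdeal ≠ maximalIdeal A)
    (h : ∀ p ∈ S, ∃ a ∈ p.asIdeal, ∃ b ∉ p.asIdeal, ∃ n : ℕ, ∀ x : N, a • x = 0 →
      ∀ c ∈ maximalIdeal A ^ n, c • b • x = 0) :
    IsFiniteLength A N := by
  obtain ⟨E, _, _, f, hf⟩ := Localalg.InjHull.exists_injective_hull (R := A) (M := ResidueField A)
  have : Module.Finite A (N →ₗ[A] E) := Localalg.Matlis.finite_dual_of_isArtinian hf N
  have hfl : IsFiniteLength A (N →ₗ[A] E) := by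
    rw [Sga2.MatlisLen.isFiniteLength_iff_support]
    intro p hp hpS
    obtain ⟨q, hq, hpq, hqm⟩ := hS p hp
    have hqS : q ∈ Module.support A (N →ₗ[A] E) := Module.mem_support_mono hpq hpS
    obtain ⟨a, ha, b, hb, n, hn⟩ := h q hq
    have hlt : ¬ maximalIdeal A ≤ q.asIdeal := by
      intro hle
      exact hqm ((maximalIdeal.isMaximal A).eq_of_le q.isPrime.ne_top hle).symm
    obtain ⟨c, hc, hcq⟩ := SetLike.not_le_iff_exists.mp hlt
    have hd : ∀ φ : N →ₗ[A] E, (c ^ n * b) • φ ∈ q.asIdeal • (⊤ : Submodule A (N →ₗ[A] E)) := by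
      intro φ
      -- `(c ^ n * b) • φ` kills the kernel of multiplication by `a`
      let μ : N →ₗ[A] N := LinearMap.lsmul A N a
      have hex := Localalg.Matlis.lcomp_exact hf.isInjective (LinearMap.ker μ).subtype μ
        (by
          intro x
          constructor
          · intro hx
            exact ⟨⟨x, hx⟩, rfl⟩
          · rintro ⟨y, rfl⟩
            exact y.2)
      obtain ⟨ψ, hψ⟩ := (hex ((c ^ n * b) • φ)).mp (by
        ext x
        have hx : a • (x : N) = 0 := x.2
        have := hn x hx (c ^ n) (Ideal.pow_mem_pow hc n)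
        change (c ^ n * b) • φ x = 0
        rw [← map_smul, mul_smul, this, map_zero])
      have : (c ^ n * b) • φ = a • ψ := by
        rw [← hψ]
        ext x
        change ψ (a • x) = a • ψ x
        rw [map_smul]
      rw [this]
      exact Submodule.smul_mem_smul ha Submodule.mem_top
    obtain ⟨k, e, he, hex⟩ := exists_sub_pow_mem_smul_eq_zero q.asIdeal (c ^ n * b) hd
    have heq : e ∉ q.asIdeal := by
      intro hmem
      have h1 : (c ^ n * b) ^ k ∈ q.asIdeal := by
        have := q.asIdeal.sub_mem hmem he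
        rwa [sub_sub_cancel] at this
      have h2 := q.isPrime.mem_of_pow_mem k h1
      rcases q.isPrime.mem_or_mem h2 with h3 | h3
      · exact hcq (q.isPrime.mem_of_pow_mem n h3)
      · exact hb h3
    rw [← not_not (a := q ∈ _), ← Set.mem_compl_iff] at hqS
    refine hqS ?_
    rw [Set.mem_compl_iff, Module.notMem_support_iff']
    exact fun m => ⟨e, heq, hex m⟩
  have h2 := Localalg.Matlis.isFiniteLength_dual hf _ hfl
  exact (LinearEquiv.ofBijective _
    (Localalg.Matlis.applyₗ_bijective_of_isArtinian hf N)).symm.isFiniteLength h2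

end Groth.Agent.Ega4A.ResBound
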